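import Cfsg.Agent.Lib.WeaklyClosed.Quot
import Cfsg.Agent.Lib.ChevStructure.Parabolic
import Cfsg.Agent.Lib.ChevFixed.Basic

/-! A weakly closed subgroup of `U`: the set `J` and the filtration by heights. -/

set_option autoImplicit false
set_option linter.unusedSectionVars false

open Cfsg.Lie Cfsg.Agent.Lib.ChevStructure
open scoped MatrixGroups

namespace Cfsg.Agent.Lib.WeaklyClosed.Base

variable {D : ChevalleyDatum} {C : Core D}

/-- The height of a root. -/
def htN (C : Core D) (r : Rt D) : ℤ := ∑ m, C.v r m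

theorem htN_combo {r s q : Rt D} {i j : ℕ} (h : C.v q = (i : ℤ) • C.v r + (j : ℤ) • C.v s) :
    htN C q = i * htN C r + j * htN C s := by
  simp [htN, h, Finset.sum_add_distrib, Finset.mul_sum]

theorem htN_p (i : Fin D.rank) : htN C (C.p i) = 1 := by simp [htN, C.v_p]

theorem htN_pos {r : Rt D} (hr : r ∈ C.Pos) : 1 ≤ htN C r := by
  by_contra hc
  have h0 : ∀ m, C.v r m = 0 := fun m => by
    have := Finset.single_le_sum (f := fun k => C.v r k) (fun k _ => C.v_nonneg hr k) (Finset.mem_univ m)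
    have := C.v_nonneg hr m
    simp only [htN] at hc
    omega
  have := C.ht_pos hr
  simp [Core.ht, phi, h0] at this

theorem eq_p_of_htN {r : Rt D} (hr : r ∈ C.Pos) (h : htN C r ≤ 1) : ∃ i, r = C.p i := by
  by_contra hc
  push Not at hc
  obtain ⟨i, hi⟩ : ∃ i, 0 < C.v r i := by
    by_contra h0
    push Not at h0
    have : htN C r ≤ 0 := Finset.sum_nonpos fun m _ => h0 m
    have := htN_pos hr
    omega
  have hz : ∀ m, m ≠ i → C.v r m = 0 := fun m hm => by
    have h2 := Finset.sum_le_sum_of_subset_of_nonneg (f := fun k => C.v r k) (Finset.subset_univ {i, m})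
      (fun k _ _ => C.v_nonneg hr k)
    rw [Finset.sum_pair hm.symm] at h2
    have := C.v_nonneg hr m
    simp only [htN] at h
    omega
  have hone : C.v r i = 1 := by
    have := Finset.single_le_sum (f := fun k => C.v r k) (fun k _ => C.v_nonneg hr k) (Finset.mem_univ i)
    simp only [htN] at h
    omega
  refine hc i (C.v_inj ?_)
  funext m
  rw [C.v_p]
  by_cases hm : m = i
  · subst hm; simp [hone]
  · simp [hm, hz m hm]

/-- The roots of `U_J` of height at least `h`. -/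
def KJ (C : Core D) (J : Set ℕ) (h : ℕ) : Set (Rt D) := {r | r ∈ C.UJ J ∧ (h : ℤ) ≤ htN C r}

theorem UJ_combo {J : Set ℕ} {r s q : Rt D} {i j : ℕ} (hr : r ∈ C.Pos) (hs : s ∈ C.UJ J)
    (hj : 1 ≤ j) (hv : C.v q = (i : ℤ) • C.v r + (j : ℤ) • C.v s) : q ∈ C.UJ J := by
  obtain ⟨m, hm, hsv⟩ := C.exists_outside hs
  have hq : 0 < C.v q m := by
    rw [hv]
    simp only [Pi.add_apply, Pi.smul_apply, smul_eq_mul]
    have := C.v_nonneg hr m
    have : (1 : ℤ) ≤ (j : ℤ) := by exact_mod_cast hj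
    have : (0 : ℤ) ≤ (i : ℤ) := Int.natCast_nonneg i
    nlinarith
  exact ⟨C.pos_of_coord hq, fun hq' => by rw [C.v_zero_of_PJ hq' hm] at hq; exact lt_irrefl 0 hq⟩

theorem absorb_KJ {J : Set ℕ} {h : ℕ} {r : Rt D} (hr : r ∈ C.Pos) : C.Absorb r (KJ C J h) := by
  refine ⟨fun h' => (C.neg_iff_not_pos _).1 (C.rev_neg hr) h'.1.1, fun s hs _ q i j hi hj hv => ?_⟩
  refine ⟨UJ_combo hr hs.1 hj hv, ?_⟩
  have h1 := htN_combo hv
  have h2 := htN_pos hr
  have h3 := htN_pos hs.1.1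
  have h4 := hs.2
  have : (1 : ℤ) ≤ (i : ℤ) := by exact_mod_cast hi
  have : (1 : ℤ) ≤ (j : ℤ) := by exact_mod_cast hj
  nlinarith

variable {F : Type*} [Field F]

theorem conj_in_sup {G : Type*} [Group G] {A B : Subgroup G} {g : G}
    (hA : g ∈ Subgroup.normalizer (A : Set G)) (hB : g ∈ Subgroup.normalizer (B : Set G)) :
    g ∈ Subgroup.normalizer ((A ⊔ B : Subgroup G) : Set G) := by
  rw [Subgroup.mem_normalizer_iff_map_conj_eq] at hA hB ⊢
  rw [Subgroup.map_sup, hA, hB]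

/-- `X` is weakly closed in `U`. -/
structure WC (C : Core D) (X : Subgroup (GL D.Idx F)) : Prop where
  le : X ≤ C.US F C.Pos
  wc : ∀ g ∈ D.group F, X.map (MulAut.conj g).toMonoidHom ≤ C.US F C.Pos →
    X.map (MulAut.conj g).toMonoidHom = X

/-- The fundamental reflections whose representative normalises `X`. -/
def JX (C : Core D) (X : Subgroup (GL D.Idx F)) : Set ℕ :=
  {i | ∃ h : i < D.rank, C.P F ⟨i, h⟩ ∈ Subgroup.normalizer (X : Set (GL D.Idx F))}

variable {X : Subgroup (GL D.Idx F)}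

theorem normalizes (hX : WC C X) {g : GL D.Idx F} (hg : g ∈ D.group F)
    (h : ∀ x ∈ X, g * x * g⁻¹ ∈ C.US F C.Pos) : g ∈ Subgroup.normalizer (X : Set (GL D.Idx F)) := by
  rw [Subgroup.mem_normalizer_iff_map_conj_eq]
  refine hX.wc g hg ?_
  rintro y ⟨x, hx, rfl⟩
  exact h x hx

theorem borel_normalizes (_H : CommOK C) (hX : WC C X) :
    D.borelSubgroup F ≤ Subgroup.normalizer (X : Set (GL D.Idx F)) := by
  have hU : D.borelSubgroup F ≤ Subgroup.normalizer (C.US F C.Pos : Set (GL D.Idx F)) := by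
    rw [C.borel_eq]
    exact sup_le Subgroup.le_normalizer (C.diag_le_normalizer _)
  intro g hg
  exact normalizes hX (C.borel_le_group hg) fun x hx =>
    (Subgroup.mem_normalizer_iff.1 (hU hg) x).1 (hX.le hx)

theorem not_le_posBut (_H : CommOK C) (hX : WC C X) {i : Fin D.rank} (hi : (i : ℕ) ∉ JX C X) :
    ¬ X ≤ C.US F (C.posBut i) := by
  intro hle
  refine hi ⟨i.2, normalizes hX (C.P_mem_group i) fun x hx => ?_⟩
  refine C.conj_mem_US F (T := C.Pos) (σ := C.sref i) ?_ (fun r hr => (C.w_posBut hr).1) (hle hx)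
  have := C.acts_wprod F [i]
  simpa [Core.pprod, Core.wprod] using this

/-- `X` lies in `U_J`. -/
theorem le_radical (H : CommOK C) (hX : WC C X) : X ≤ C.US F (C.UJ (JX C X)) := by
  classical
  set J := JX C X with hJ
  obtain ⟨L, hLJ, hneg⟩ : ∃ L : List (Fin D.rank), (∀ i ∈ L, (i : ℕ) ∈ J) ∧
      ∀ r ∈ C.Pos, r ∈ C.PJ J → C.pprod L r ∈ C.Neg := by
    let S : Set ℕ := {n | ∃ L : List (Fin D.rank), (∀ i ∈ L, (i : ℕ) ∈ J) ∧ C.len (C.pprod L) = n}
    have hne : S.Nonempty := ⟨_, [], by simp, rfl⟩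
    have hbd : BddAbove S := ⟨Nat.card (Rt D), by
      rintro n ⟨L, -, rfl⟩
      exact Set.ncard_le_card _⟩
    obtain ⟨L, hL, hmax⟩ := Nat.sSup_mem hne hbd
    refine ⟨L, hL, ?_⟩
    have hj : ∀ j : Fin D.rank, (j : ℕ) ∈ J → C.pprod L (C.p j) ∈ C.Neg := by
      intro j hj
      by_contra hc
      have hp : C.pprod L (C.p j) ∈ C.Pos := by
        by_contra h; exact hc ((C.neg_iff_not_pos _).2 h)
      have h2 : C.len (C.pprod (L ++ [j])) = C.len (C.pprod L) + 1 := by
        rw [C.pprod_concat]; exact C.len_mul_sref_pos (C.pprod_rev L) hp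
      have h3 := le_csSup hbd (show C.len (C.pprod (L ++ [j])) ∈ S from
        ⟨L ++ [j], fun i hi => by
          rcases List.mem_append.1 hi with h | h
          · exact hL i h
          · rw [List.mem_singleton] at h; exact h ▸ hj, rfl⟩)
      omega
    intro r hr hrJ
    rw [C.neg_iff_not_pos]
    intro hp
    have h0 : ∀ m, C.v (C.pprod L r) m = 0 := by
      intro m
      refine le_antisymm ?_ (C.v_nonneg hp m)
      rw [C.pprod_v]
      refine Finset.sum_nonpos fun k _ => ?_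
      by_cases hk : (k : ℕ) ∈ J
      · exact mul_nonpos_of_nonneg_of_nonpos (C.v_nonneg hr k) (C.v_nonpos (hj k hk) m)
      · rw [C.v_zero_of_PJ hrJ hk, zero_mul]
    have := C.ht_pos hp
    simp [Core.ht, phi, h0] at this
  set w := C.wprod F L with hw
  have hwN : w ∈ Subgroup.normalizer (X : Set (GL D.Idx F)) := by
    refine list_prod_mem fun g hg => ?_
    rw [List.mem_map] at hg
    obtain ⟨i, hi, rfl⟩ := hg
    have hm : (i : ℕ) ∈ JX C X := hLJ i hi
    exact hm.2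
  have hwP : w ∈ D.parabolicSubgroup F J := by
    refine list_prod_mem fun g hg => ?_
    rw [List.mem_map] at hg
    obtain ⟨i, hi, rfl⟩ := hg
    exact C.P_mem_parabolic (hLJ i hi)
  intro x hx
  obtain ⟨a, ha, b, hb, rfl⟩ := ChevFixed.Basic.exists_split H (A := C.UJ J) (B := C.Pos ∩ C.PJ J)
    (fun r hr => hr.1) (fun r hr => (em (r ∈ C.PJ J)).elim (fun h => Or.inr ⟨hr, h⟩)
      (fun h => Or.inl ⟨hr, h⟩)) (hX.le hx)
  have ha' : w * a * w⁻¹ ∈ C.US F (C.UJ J) :=
    (Subgroup.mem_normalizer_iff.1 (H.parabolic_le_normalizer J hwP) a).1 ha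
  have hb' : w * b * w⁻¹ ∈ C.US F C.Neg :=
    C.conj_mem_US F (C.acts_wprod F L) (fun r hr => hneg r hr.1 hr.2) hb
  have hx' : w * (a * b) * w⁻¹ ∈ C.US F C.Pos :=
    hX.le ((Subgroup.mem_normalizer_iff.1 hwN _).1 hx)
  have h1 : w * b * w⁻¹ = 1 := by
    rw [← Subgroup.mem_bot, ← C.borel_inf_negUS]
    refine Subgroup.mem_inf.2 ⟨?_, hb'⟩
    rw [show w * b * w⁻¹ = (w * a * w⁻¹)⁻¹ * (w * (a * b) * w⁻¹) by group]
    exact mul_mem (inv_mem (C.posUS_le_borel (C.US_mono F (fun r hr => hr.1) ha'))) (C.posUS_le_borel hx')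
  rw [conj_eq_one_iff] at h1
  rw [h1, mul_one]
  exact ha

/-- `X · K_h`. -/
def Y (C : Core D) (X : Subgroup (GL D.Idx F)) (h : ℕ) : Subgroup (GL D.Idx F) :=
  X ⊔ C.US F (KJ C (JX C X) h)

theorem Y_le_posUS (hX : WC C X) (h : ℕ) : Y C X h ≤ C.US F C.Pos :=
  sup_le hX.le (C.US_mono F fun _ hr => hr.1.1)

theorem borel_le_normalizer_Y (H : CommOK C) (hX : WC C X) (h : ℕ) :
    D.borelSubgroup F ≤ Subgroup.normalizer (Y C X h : Set (GL D.Idx F)) := by
  have hK : D.borelSubgroup F ≤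
      Subgroup.normalizer (C.US F (KJ C (JX C X) h) : Set (GL D.Idx F)) := by
    rw [C.borel_eq]
    refine sup_le ((Subgroup.closure_le _).2 ?_) (C.diag_le_normalizer _)
    rintro g ⟨r, hr, t, rfl⟩
    exact H.mem_normalizer (absorb_KJ hr) t
  exact fun g hg => conj_in_sup (borel_normalizes H hX hg) (hK hg)

theorem Y_normal (H : CommOK C) (hX : WC C X) (h : ℕ) :
    ((Y C X h).subgroupOf (C.US F C.Pos)).Normal :=
  Subgroup.normal_subgroupOf_of_le_normalizer (C.posUS_le_borel.trans (borel_le_normalizer_Y H hX h))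

end Cfsg.Agent.Lib.WeaklyClosed.Base
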