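import Cfsg.Prelude.Def_LieTypes
import Cfsg.Prelude.Def_ChevB2
import Cfsg.Prelude.Def_ChevD4
import Cfsg.Agent.Lib.ChevStructure.Core

/-! Finite conditions on the root data used for weakly closed subgroups of `U`. -/

set_option autoImplicit false
set_option synthInstance.maxSize 1000

open Cfsg.Lie Cfsg.Agent.Lib.ChevStructure

namespace Cfsg.Agent.Lib.WeaklyClosed.Cert

/-- The root `r` occurs with coefficient `±1` as `s + i p_j` in a commutator, `i ≤ mmax`. -/
def Wit (D : ChevalleyDatum) (mmax : ℕ) (j : Fin D.rank) (s r : Rt D) : Prop :=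
  ∃ c ∈ D.commTerms (D.simple j.val) s.val, c.1 = r.val ∧ (c.2.1 = 1 ∨ c.2.1 = -1) ∧ c.2.2.1 ≤ mmax ∧
    c.2.2.2 = 1 ∧
    ((D.commTerms (D.simple j.val) s.val).filter fun c' => decide (c'.2.2.1 = c.2.2.1 ∧ c'.2.2.2 = 1)).length = 1 ∧
    ∀ c' ∈ D.commTerms (D.simple j.val) s.val, c'.2.2.2 = 1 ∨ c.2.2.1 ≤ c'.2.2.1

instance witDecidable (D : ChevalleyDatum) (mmax : ℕ) (j : Fin D.rank) (s r : Rt D) :
    Decidable (Wit D mmax j s r) := by
  unfold Wit; infer_instance

/-- Every positive root is fundamental or has a witness. -/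
def RootCert (D : ChevalleyDatum) (mmax : ℕ) : Prop :=
  ∀ r : Rt D, D.nroots ≤ 2 * r.val → (∃ j : Fin D.rank, D.simple j.val = r.val) ∨
    ∃ (j : Fin D.rank) (s : Rt D), D.nroots ≤ 2 * s.val ∧ s.val ≠ D.simple j.val ∧ Wit D mmax j s r

/-- Any two fundamental roots are separated by a cocharacter of exponent `±1` (or `±2` if allowed). -/
def SepCert (D : ChevalleyDatum) (hs : ∀ i : Fin D.rank, D.simple i.val < D.nroots) (two : Bool) : Prop :=
  ∀ i k : Fin D.rank, i = k ∨ ∃ j j' : Fin D.rank, ∃ a ∈ ([-3, -2, -1, 0, 1, 2, 3] : List ℤ),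
    ∃ b ∈ ([-3, -2, -1, 0, 1, 2, 3] : List ℤ),
      a * A D j ⟨D.simple k.val, hs k⟩ + b * A D j' ⟨D.simple k.val, hs k⟩ = 0 ∧
      (a * A D j ⟨D.simple i.val, hs i⟩ + b * A D j' ⟨D.simple i.val, hs i⟩ = 1 ∨
       a * A D j ⟨D.simple i.val, hs i⟩ + b * A D j' ⟨D.simple i.val, hs i⟩ = -1 ∨
       (two = true ∧ a * A D j ⟨D.simple i.val, hs i⟩ + b * A D j' ⟨D.simple i.val, hs i⟩ = 2))

instance rootCertDecidable (D : ChevalleyDatum) (mmax : ℕ) : Decidable (RootCert D mmax) := by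
  unfold RootCert; infer_instance

instance sepCertDecidable (D : ChevalleyDatum) (hs : ∀ i : Fin D.rank, D.simple i.val < D.nroots)
    (two : Bool) : Decidable (SepCert D hs two) := by
  unfold SepCert; infer_instance

end Cfsg.Agent.Lib.WeaklyClosed.Cert
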