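import Cfsg.Agent.Lib.WeaklyClosed.Cert

/-! The certificates for the seven data. -/

set_option autoImplicit false
set_option maxRecDepth 20000

open Cfsg.Lie

namespace Cfsg.Agent.Lib.WeaklyClosed.Certs

open Cfsg.Agent.Lib.WeaklyClosed.Cert

theorem rootG2 : RootCert chevG2 3 := by decide +kernel

theorem sepG2 : SepCert chevG2 (by decide +kernel) true := by decide +kernel

theorem rootB2 : RootCert chevB2 2 := by decide +kernel

theorem sepB2 : SepCert chevB2 (by decide +kernel) true := by decide +kernel

theorem rootD4 : RootCert chevD4 1 := by decide +kernel

theorem sepD4 : SepCert chevD4 (by decide +kernel) true := by decide +kernel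

theorem rootF4 : RootCert chevF4 2 := by decide +kernel

theorem sepF4 : SepCert chevF4 (by decide +kernel) true := by decide +kernel

theorem rootE6 : RootCert chevE6 1 := by decide +kernel

theorem sepE6 : SepCert chevE6 (by decide +kernel) false := by decide +kernel

theorem rootE7 : RootCert chevE7 1 := by decide +kernel

theorem sepE7 : SepCert chevE7 (by decide +kernel) false := by decide +kernel

theorem rootE8 : RootCert chevE8 1 := by decide +kernel

theorem sepE8 : SepCert chevE8 (by decide +kernel) false := by decide +kernel

end Cfsg.Agent.Lib.WeaklyClosed.Certs
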