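import Cfsg.Agent.Lib.WeaklyClosed.Base
import Cfsg.Agent.Lib.WeaklyClosed.Cert
import Mathlib.FieldTheory.Finite.Basic

/-! Climbing the heights: a weakly closed subgroup is all of `U_J`. -/

set_option autoImplicit false
set_option linter.unusedSectionVars false

open Cfsg.Lie Cfsg.Agent.Lib.ChevStructure
open scoped MatrixGroups

namespace Cfsg.Agent.Lib.WeaklyClosed.Main

open Base Cert Cfsg.Agent.Lib.WeaklyClosed.Quot

variable {D : ChevalleyDatum} {C : Core D} (H : CommOK C) {F : Type*} [Field F]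
  {X : Subgroup (GL D.Idx F)} {Q : Type*} [Group Q] (π : ↥(C.US F C.Pos) →* Q)

include H

/-- Root elements commute modulo `Y_n` if their heights add up to at least `n`. -/
theorem commute_xg {n : ℕ} (hπ : ∀ u, π u = 1 ↔ (u : GL D.Idx F) ∈ Y C X n) {q q' : Rt D}
    (hq : q ∈ C.Pos) (hq' : q' ∈ C.Pos) (hJ : q ∈ C.UJ (JX C X) ∨ q' ∈ C.UJ (JX C X))
    (hn : (n : ℤ) ≤ htN C q + htN C q') (t u : F) :
    Commute (π (xg C q.val t)) (π (xg C q'.val u)) := by
  by_cases he : q' = q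
  · subst he
    show _ * _ = _ * _
    rw [← map_mul, ← map_mul, xg_add, xg_add, add_comm]
  have hne : q' ≠ q.rev := fun h => (C.neg_iff_not_pos _).1 (C.rev_neg hq) (h ▸ hq')
  have e : π ((xg C q.val t * xg C q'.val u)⁻¹ * (xg C q'.val u * xg C q.val t)) = 1 := by
    rw [hπ]
    simp only [Subgroup.coe_mul, InvMemClass.coe_inv, xg_coe C hq, xg_coe C hq']
    rw [H.comm_X q q' he hne t u, inv_mul_cancel_left]
    refine list_prod_mem fun g hg => ?_
    rw [List.mem_map] at hg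
    obtain ⟨c, hc, rfl⟩ := hg
    obtain ⟨r, hr, hi, hj, hv⟩ := H.terms q q' he hne c hc
    refine Subgroup.mem_sup_right (C.XN_mem_US F (S := KJ C (JX C X) n) (q := r) ⟨?_, ?_⟩ hr _)
    · rcases hJ with h | h
      · exact UJ_combo (i := c.2.2.2) (j := c.2.2.1) hq' h hi (by rw [hv]; abel)
      · exact UJ_combo hq h hj hv
    · have := htN_combo hv
      have := htN_pos hq
      have := htN_pos hq'
      have : (1 : ℤ) ≤ (c.2.2.1 : ℤ) := by exact_mod_cast hi
      have : (1 : ℤ) ≤ (c.2.2.2 : ℤ) := by exact_mod_cast hj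
      nlinarith
  rw [map_mul, map_inv, inv_mul_eq_one, map_mul, map_mul] at e
  exact e

/-- The image of `Y_h` is central modulo `Y_{h+1}`. -/
theorem commute_of_mem {h : ℕ} (hπ : ∀ u, π u = 1 ↔ (u : GL D.Idx F) ∈ Y C X (h + 1))
    (hle : X ≤ C.US F C.Pos) {a b : ↥(C.US F C.Pos)} (ha : (a : GL D.Idx F) ∈ Y C X h) : Commute (π a) (π b) := by
  let Z : Subgroup (GL D.Idx F) :=
    ((Subgroup.centralizer (Set.range π)).comap π).map (C.US F C.Pos).subtype
  have hgen : ∀ s ∈ KJ C (JX C X) h, ∀ t : F, π (xg C s.val t) ∈ Subgroup.centralizer (Set.range π) := by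
    intro s hs t
    rw [Subgroup.mem_centralizer_iff]
    rintro _ ⟨⟨g, hg⟩, rfl⟩
    symm
    induction hg using Subgroup.closure_induction with
    | mem x hx =>
      obtain ⟨r, hr, v, rfl⟩ := hx
      have e : (⟨C.X F r v, C.X_mem_US F hr v⟩ : ↥(C.US F C.Pos)) = xg C r.val v :=
        Subtype.ext (xg_coe C hr v).symm
      rw [e]
      refine (commute_xg H π hπ hs.1.1 hr (Or.inl hs.1) ?_ t v).eq
      have := htN_pos hr
      have := hs.2
      push_cast
      omega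
    | one =>
      rw [show (⟨1, one_mem _⟩ : ↥(C.US F C.Pos)) = 1 from rfl, map_one, mul_one, one_mul]
    | mul x y hx hy ihx ihy =>
      rw [show (⟨x * y, mul_mem hx hy⟩ : ↥(C.US F C.Pos)) = ⟨x, hx⟩ * ⟨y, hy⟩ from rfl, map_mul]
      exact (Commute.mul_right ihx ihy).eq
    | inv x hx ih =>
      rw [show (⟨x⁻¹, inv_mem hx⟩ : ↥(C.US F C.Pos)) = ⟨x, hx⟩⁻¹ from rfl, map_inv]
      exact (Commute.inv_right ih).eq
  have hYU : Y C X h ≤ Z := by
    refine sup_le (fun x hx => ?_) ((Subgroup.closure_le _).2 ?_)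
    · have hxU : x ∈ C.US F C.Pos := hle hx
      refine ⟨⟨x, hxU⟩, ?_, rfl⟩
      rw [SetLike.mem_coe, Subgroup.mem_comap, (hπ ⟨x, hxU⟩).2 (Subgroup.mem_sup_left hx)]
      exact one_mem _
    · rintro g ⟨s, hs, t, rfl⟩
      exact ⟨xg C s.val t, hgen s hs t, xg_coe C hs.1.1 t⟩
  obtain ⟨a', ha', e⟩ := hYU ha
  obtain rfl : a' = a := Subtype.ext e
  exact ((Subgroup.mem_centralizer_iff.1 ha') (π b) ⟨b, rfl⟩).symm

omit H in
/-- Polynomial targets. -/
theorem poly_target {K : AddSubgroup (ℕ × ℕ → F)}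
    (hK : ∀ t u : F, (fun k : ℕ × ℕ => t ^ k.1 * u ^ k.2) ∈ K) {m : ℕ} (h1 : 1 ≤ m) (h3 : m ≤ 3)
    (hq2 : 2 ≤ m → ∃ t : F, t ≠ 0 ∧ t ≠ 1)
    (hq3 : m = 3 → ∃ t s : F, t ≠ 0 ∧ t ≠ 1 ∧ s ≠ 0 ∧ s ≠ 1 ∧ t ≠ s) (x : F) :
    ∃ φ ∈ K, φ (m, 1) = x ∧ ∀ i, 1 ≤ i → i < m → φ (i, 1) = 0 := by
  let g : F → F → ℕ × ℕ → F := fun t u =>
    (fun k : ℕ × ℕ => t ^ k.1 * u ^ k.2) - fun k : ℕ × ℕ => (1 : F) ^ k.1 * (t * u) ^ k.2
  have hg : ∀ t u, g t u ∈ K := fun t u => K.sub_mem (hK t u) (hK 1 (t * u))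
  obtain rfl | rfl | rfl : m = 1 ∨ m = 2 ∨ m = 3 := by omega
  · exact ⟨_, hK 1 x, by simp, fun i hi hi' => absurd hi' (by omega)⟩
  · obtain ⟨t, ht0, ht1⟩ := hq2 le_rfl
    have hd : t ^ 2 - t ≠ 0 := by
      rw [show t ^ 2 - t = t * (t - 1) by ring]
      exact mul_ne_zero ht0 (sub_ne_zero.2 ht1)
    refine ⟨g t (x / (t ^ 2 - t)), hg _ _, ?_, fun i hi hi' => ?_⟩
    · simp only [g, Pi.sub_apply, pow_one, one_pow, one_mul]
      rw [← sub_mul, mul_div_cancel₀ _ hd]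
    · obtain rfl : i = 1 := by omega
      simp [g]
  · obtain ⟨t, s, ht0, ht1, hs0, hs1, hts⟩ := hq3 rfl
    set d : F := t * s * (t - 1) * (s - 1) * (t - s) with hd_def
    have hd : d ≠ 0 :=
      mul_ne_zero (mul_ne_zero (mul_ne_zero (mul_ne_zero ht0 hs0) (sub_ne_zero.2 ht1)) (sub_ne_zero.2 hs1))
        (sub_ne_zero.2 hts)
    refine ⟨g t ((s ^ 2 - s) * (x / d)) - g s ((t ^ 2 - t) * (x / d)), K.sub_mem (hg _ _) (hg _ _), ?_,
      fun i hi hi' => ?_⟩
    · simp only [g, Pi.sub_apply, pow_one, one_pow, one_mul]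
      rw [show t ^ 3 * ((s ^ 2 - s) * (x / d)) - t * ((s ^ 2 - s) * (x / d)) -
          (s ^ 3 * ((t ^ 2 - t) * (x / d)) - s * ((t ^ 2 - t) * (x / d))) = d * (x / d) by
        rw [hd_def]; ring]
      exact mul_div_cancel₀ _ hd
    · obtain rfl | rfl : i = 1 ∨ i = 2 := by omega
      · simp [g]
      · simp only [g, Pi.sub_apply, pow_one, one_pow, one_mul]
        ring

omit H in
theorem W_eq_one_iff {n : ℕ} (hπ : ∀ u, π u = 1 ↔ (u : GL D.Idx F) ∈ Y C X n) {κ : Type*}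
    (L : List (ℕ × F × κ)) (φ : κ → F) :
    W C π L φ = 1 ↔
      (L.map fun c => ((xg C c.1 (c.2.1 * φ c.2.2) : ↥(C.US F C.Pos)) : GL D.Idx F)).prod ∈ Y C X n := by
  have e : W C π L φ = π ((L.map fun c => xg C c.1 (c.2.1 * φ c.2.2)).prod) := by
    rw [map_list_prod, List.map_map]; rfl
  rw [e, hπ, SubmonoidClass.coe_list_prod, List.map_map]
  rfl

/-- One root of height `h + 1 ≥ 2`. -/
theorem step_root {mmax h : ℕ} (hπ : ∀ u, π u = 1 ↔ (u : GL D.Idx F) ∈ Y C X (h + 1))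
    (hX : WC C X) (hroot : RootCert D mmax) (hmm : mmax ≤ 3)
    (hq2 : ∃ t : F, t ≠ 0 ∧ t ≠ 1)
    (hq3 : mmax = 3 → ∃ t s : F, t ≠ 0 ∧ t ≠ 1 ∧ s ≠ 0 ∧ s ≠ 1 ∧ t ≠ s)
    (hIH : C.US F (C.UJ (JX C X)) ≤ Y C X h)
    {r : Rt D} (hr : r ∈ C.UJ (JX C X)) (hrh : htN C r = h) (h2 : 2 ≤ h) (x : F) :
    C.X F r x ∈ Y C X (h + 1) := by
  classical
  rcases hroot r hr.1 with ⟨j, hj⟩ | ⟨j, s, hs, hsj, hw⟩
  · exfalso
    rw [C.simple_eq] at hj
    rw [← Fin.ext hj, htN_p] at hrh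
    omega
  obtain ⟨c, hc, hcr, hsign, hmle, hc1, hlen, hmin⟩ := hw
  rw [C.simple_eq] at hsj
  rw [C.simple_eq] at hc hlen hmin
  have hsne : s ≠ C.p j := fun e => hsj (congrArg Fin.val e)
  have hsrev : s ≠ (C.p j).rev := fun e => (C.neg_iff_not_pos _).1 (C.rev_neg (C.p_pos j)) (e ▸ hs)
  have hterm : ∀ a ∈ D.commTerms (C.p j).val s.val, ∃ q : Rt D, a.1 = q.val ∧ 1 ≤ a.2.2.1 ∧ 1 ≤ a.2.2.2 ∧
      q ∈ C.Pos ∧ C.v q = (a.2.2.1 : ℤ) • C.v (C.p j) + (a.2.2.2 : ℤ) • C.v s := by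
    intro a ha
    obtain ⟨q, hq, hi, hj', hv⟩ := H.terms (C.p j) s hsne hsrev a ha
    exact ⟨q, hq, hi, hj', H.pos_closed (C.p_pos j) hs hj' hv, hv⟩
  obtain ⟨rc, hrc, hci, -, -, hvr⟩ := hterm c hc
  obtain rfl : rc = r := Fin.ext (hrc.symm.trans hcr)
  have hsum : (h : ℤ) = c.2.2.1 + htN C s := by
    have := htN_combo hvr
    rw [htN_p, hc1, mul_one, Nat.cast_one, one_mul, hrh] at this
    exact this
  have hs1 := htN_pos (C := C) hs
  have hUJ : C.p j ∈ C.UJ (JX C X) ∨ s ∈ C.UJ (JX C X) := by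
    by_contra hc'
    push Not at hc'
    have h1 : C.p j ∈ C.PJ (JX C X) := by
      by_contra h1; exact hc'.1 ⟨C.p_pos j, h1⟩
    have h1' : s ∈ C.PJ (JX C X) := by
      by_contra h1'; exact hc'.2 ⟨hs, h1'⟩
    refine hr.2 (C.mem_PJ.2 fun i hi => (C.v_eq_zero_iff hr.1 i).1 ?_)
    rw [hvr]
    simp [C.v_zero_of_PJ h1 hi, C.v_zero_of_PJ h1' hi]
  have hcomm : ∀ t u : F, Commute (π (xg C (C.p j).val t)) (π (xg C s.val u)) := by
    intro t u
    rcases hUJ with h1 | h1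
    · refine commute_of_mem H π hπ hX.le (hIH ?_)
      rw [xg_coe C (C.p_pos j)]
      exact C.X_mem_US F h1 _
    · refine (commute_of_mem H π hπ hX.le (hIH ?_)).symm
      rw [xg_coe C hs]
      exact C.X_mem_US F h1 _
  let f : ℕ × ℤ × ℕ × ℕ → ℕ × F × (ℕ × ℕ) := fun a => (a.1, (a.2.1 : F), (a.2.2.1, a.2.2.2))
  let L : List (ℕ × F × (ℕ × ℕ)) := (D.commTerms (C.p j).val s.val).map f
  have hKJ : ∀ a ∈ D.commTerms (C.p j).val s.val, ∀ q : Rt D, a.1 = q.val →
      q ∈ C.UJ (JX C X) := by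
    intro a ha q hq
    obtain ⟨q', hq', hi, hj', -, hv⟩ := hterm a ha
    obtain rfl : q' = q := Fin.ext (hq'.symm.trans hq)
    rcases hUJ with h1 | h1
    · exact UJ_combo (i := a.2.2.2) (j := a.2.2.1) hs h1 hi (by rw [hv]; abel)
    · exact UJ_combo (C.p_pos j) h1 hj' hv
  have htriv : ∀ a ∈ D.commTerms (C.p j).val s.val, ¬ (a.2.2.1 ≤ c.2.2.1 ∧ a.2.2.2 = 1) → ∀ v : F,
      π (xg C a.1 v) = 1 := by
    intro a ha hbig v
    obtain ⟨q, hq, hi, hj', hqp, hv⟩ := hterm a ha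
    rw [hq, hπ, xg_coe C hqp]
    refine Subgroup.mem_sup_right (C.X_mem_US F (S := KJ C (JX C X) (h + 1)) ⟨hKJ a ha q hq, ?_⟩ v)
    have h1 := htN_combo hv
    rw [htN_p, mul_one] at h1
    rw [h1]
    push_cast
    rcases hmin a ha with h' | h'
    · have : c.2.2.1 < a.2.2.1 := by
        by_contra hle; exact hbig ⟨by omega, h'⟩
      rw [h', Nat.cast_one, one_mul]
      omega
    · by_cases h'' : a.2.2.2 = 1
      · have : c.2.2.1 < a.2.2.1 := by
          by_contra hle; exact hbig ⟨by omega, h''⟩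
        rw [h'', Nat.cast_one, one_mul]
        omega
      · have : (2 : ℤ) ≤ (a.2.2.2 : ℤ) := by exact_mod_cast (show 2 ≤ a.2.2.2 by omega)
        nlinarith
  have hL : ∀ a ∈ L, ∀ b ∈ L, ∀ t u : F, Commute (π (xg C a.1 t)) (π (xg C b.1 u)) := by
    intro a ha b hb t u
    rw [List.mem_map] at ha hb
    obtain ⟨a, ha, rfl⟩ := ha
    obtain ⟨b, hb, rfl⟩ := hb
    by_cases hA : a.2.2.1 ≤ c.2.2.1 ∧ a.2.2.2 = 1
    swap
    · rw [htriv a ha hA t]; exact Commute.one_left _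
    by_cases hB : b.2.2.1 ≤ c.2.2.1 ∧ b.2.2.2 = 1
    swap
    · rw [htriv b hb hB u]; exact Commute.one_right _
    obtain ⟨q, hq, hi, -, hqp, hv⟩ := hterm a ha
    obtain ⟨q', hq', hi', -, hqp', hv'⟩ := hterm b hb
    show Commute (π (xg C a.1 t)) (π (xg C b.1 u))
    rw [hq, hq']
    by_cases he : a.2.2.1 = b.2.2.1
    · obtain rfl : q = q' := C.v_inj (by rw [hv, hv', he, hA.2, hB.2])
      show _ * _ = _ * _
      rw [← map_mul, ← map_mul, xg_add, xg_add, add_comm]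
    refine commute_xg H π hπ hqp hqp' (Or.inl (hKJ a ha q hq)) ?_ t u
    rw [htN_combo hv, htN_combo hv', htN_p, hA.2, hB.2, Nat.cast_one, one_mul, mul_one, mul_one]
    push_cast
    omega
  have hK : ∀ t u : F, (fun k : ℕ × ℕ => t ^ k.1 * u ^ k.2) ∈ kerW C π L hL := by
    intro t u
    rw [mem_kerW, W_eq_one_iff π hπ]
    have e := H.comm_X (C.p j) s hsne hsrev (-t) u
    rw [neg_neg] at e
    have hc' : π (xg C s.val u * xg C (C.p j).val (-t)) = π (xg C (C.p j).val (-t) * xg C s.val u) := by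
      rw [map_mul, map_mul]; exact (hcomm (-t) u).eq.symm
    rw [← inv_mul_eq_one, ← map_inv, ← map_mul, hπ] at hc'
    have e2 : (L.map fun a => ((xg C a.1 (a.2.1 * (fun k : ℕ × ℕ => t ^ k.1 * u ^ k.2) a.2.2) :
        ↥(C.US F C.Pos)) : GL D.Idx F)).prod =
        ((D.commTerms (C.p j).val s.val).map fun a =>
          C.XN F a.1 ((a.2.1 : F) * t ^ a.2.2.1 * u ^ a.2.2.2)).prod := by
      rw [List.map_map]
      refine congrArg List.prod (List.map_congr_left fun a ha => ?_)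
      obtain ⟨q, hq, -, -, hqp, -⟩ := hterm a ha
      simp only [Function.comp_apply, f]
      rw [hq, xg_coe C hqp, C.XN_fin]
      congr 1
      ring
    rw [e2]
    have h3 := inv_mem hc'
    simp only [Subgroup.coe_mul, InvMemClass.coe_inv, mul_inv_rev, inv_inv, xg_coe C hs,
      xg_coe C (C.p_pos j)] at h3
    rw [e, ← mul_inv_rev, inv_mul_cancel_left] at h3
    exact h3
  obtain ⟨φ, hφ, hφm, hφ0⟩ := poly_target hK hci (hmle.trans hmm) (fun _ => hq2)
    (fun hm => hq3 (by omega)) ((c.2.1 : F) * x)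
  rw [mem_kerW] at hφ
  obtain ⟨c₀, hc₀⟩ := List.length_eq_one_iff.1 hlen
  obtain rfl : c = c₀ := by
    have : c ∈ (D.commTerms (C.p j).val s.val).filter
        fun a => decide (a.2.2.1 = c.2.2.1 ∧ a.2.2.2 = 1) := List.mem_filter.2 ⟨hc, by simp [hc1]⟩
    rw [hc₀, List.mem_singleton] at this
    exact this
  have hfil : L.filter (fun a => decide (a.2.2 = (c.2.2.1, 1))) = [f c] := by
    rw [List.filter_map, show ((fun a : ℕ × F × (ℕ × ℕ) => decide (a.2.2 = (c.2.2.1, 1))) ∘ f) =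
      fun a => decide (a.2.2.1 = c.2.2.1 ∧ a.2.2.2 = 1) from funext fun a => by simp [f, Prod.ext_iff], hc₀]
    rfl
  rw [W_single C π (p := fun a : ℕ × F × (ℕ × ℕ) => a.2.2 = (c.2.2.1, 1)) hfil] at hφ
  · rw [hπ] at hφ
    have hc2 : (c.2.1 : F) * ((c.2.1 : F) * x) = x := by
      rcases hsign with h' | h' <;> rw [h'] <;> simp
    simp only [f, hc1] at hφ
    rwa [hφm, hc2, hcr, xg_coe C hr.1] at hφ
  · intro a ha hpa
    rw [List.mem_map] at ha
    obtain ⟨a, ha, rfl⟩ := ha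
    by_cases hA : a.2.2.1 ≤ c.2.2.1 ∧ a.2.2.2 = 1
    · obtain ⟨q, -, hi, -⟩ := hterm a ha
      have hlt : a.2.2.1 < c.2.2.1 := lt_of_le_of_ne hA.1 fun e => hpa (Prod.ext e hA.2)
      simp only [f, hA.2, hφ0 _ hi hlt, mul_zero]
      rw [xg_zero, map_one]
    · exact htriv a ha hA _

omit H in
theorem filter_eq_singleton {α : Type*} [DecidableEq α] {l : List α} (hl : l.Nodup) {a : α} (ha : a ∈ l) :
    l.filter (fun b => decide (b = a)) = [a] := by
  induction l with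
  | nil => simp at ha
  | cons b l ih =>
    rw [List.nodup_cons] at hl
    rw [List.filter_cons]
    by_cases hb : b = a
    · subst hb
      rw [if_pos (by simp), List.cons.injEq]
      refine ⟨rfl, List.filter_eq_nil_iff.2 fun c hc => ?_⟩
      simp only [decide_eq_true_eq]
      rintro rfl
      exact hl.1 hc
    · rw [if_neg (by simp [hb])]
      exact ih hl.2 ((List.mem_cons.1 ha).resolve_left (Ne.symm hb))

/-- The fundamental roots outside `J`. -/
theorem step_one [Fintype F] (hπ : ∀ u, π u = 1 ↔ (u : GL D.Idx F) ∈ Y C X 2) (hX : WC C X)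
    (hs : ∀ i : Fin D.rank, D.simple i.val < D.nroots) {two : Bool} (hsep : SepCert D hs two)
    (hz : ∃ z : Fˣ, z ≠ 1 ∧ (two = true → z ^ (2 : ℤ) ≠ 1))
    {i : Fin D.rank} (hi : (i : ℕ) ∉ JX C X) (x : F) : C.X F (C.p i) x ∈ Y C X 2 := by
  classical
  set J := JX C X with hJ
  have hpU : ∀ k : Fin D.rank, (k : ℕ) ∉ J → C.p k ∈ C.UJ J := fun k hk => ⟨C.p_pos k, fun h => by
    have := C.mem_PJ.1 h k hk
    simp [C.co_p] at this⟩
  let l : List (Fin D.rank) := (List.finRange D.rank).filter fun k => decide ((k : ℕ) ∉ J)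
  have hmem : ∀ k : Fin D.rank, k ∈ l ↔ (k : ℕ) ∉ J := fun k => by simp [l]
  have hnd : l.Nodup := (List.nodup_finRange _).filter _
  let f : Fin D.rank → ℕ × F × Fin D.rank := fun k => ((C.p k).val, 1, k)
  let L := l.map f
  have hL : ∀ a ∈ L, ∀ b ∈ L, ∀ t u : F, Commute (π (xg C a.1 t)) (π (xg C b.1 u)) := by
    intro a ha b hb t u
    rw [List.mem_map] at ha hb
    obtain ⟨a, ha, rfl⟩ := ha
    obtain ⟨b, -, rfl⟩ := hb
    exact commute_xg H π hπ (C.p_pos a) (C.p_pos b) (Or.inl (hpU a ((hmem a).1 ha)))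
      (by rw [htN_p, htN_p]; norm_num) t u
  have hsingle : ∀ k : Fin D.rank, (k : ℕ) ∉ J → ∀ φ : Fin D.rank → F, (∀ m, m ≠ k → φ m = 0) →
      W C π L φ = π (xg C (C.p k).val (φ k)) := by
    intro k hk φ hφ
    have hfil : L.filter (fun a => decide (a.2.2 = k)) = [f k] := by
      rw [List.filter_map]
      show List.map f (l.filter fun b => decide (b = k)) = _
      rw [filter_eq_singleton hnd ((hmem k).2 hk)]
      rfl
    rw [W_single C π (p := fun a : ℕ × F × Fin D.rank => a.2.2 = k) hfil, one_mul]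
    intro a _ ha
    rw [hφ _ ha, mul_zero, xg_zero, map_one]
  -- every element of `U_J` is a product of fundamental root elements modulo `Y₂`
  have hdec : ∀ g ∈ C.US F (C.UJ J), ∃ (hg : g ∈ C.US F C.Pos) (φ : Fin D.rank → F),
      π ⟨g, hg⟩ = W C π L φ ∧ g * C.X F (C.p i) (-φ i) ∈ C.US F (C.posBut i) := by
    have hN : ∀ a : F, C.X F (C.p i) a ∈ Subgroup.normalizer (C.US F (C.posBut i) : Set (GL D.Idx F)) :=
      fun a => H.mem_normalizer (C.absorb_p i) a
    intro g hg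
    induction hg using Subgroup.closure_induction with
    | mem g hg =>
      obtain ⟨r, hr, t, rfl⟩ := hg
      refine ⟨C.X_mem_US F hr.1 t, ?_⟩
      have e : (⟨C.X F r t, C.X_mem_US F hr.1 t⟩ : ↥(C.US F C.Pos)) = xg C r.val t :=
        Subtype.ext (xg_coe C hr.1 t).symm
      rw [e]
      by_cases hsimp : ∃ k, r = C.p k
      · obtain ⟨k, rfl⟩ := hsimp
        have hk : (k : ℕ) ∉ J := fun h => hr.2 (C.p_mem_PJ h)
        refine ⟨Pi.single k t, ?_, ?_⟩
        · rw [hsingle k hk _ fun m hm => Pi.single_eq_of_ne hm _, Pi.single_eq_same]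
        · by_cases hki : k = i
          · subst hki
            rw [Pi.single_eq_same, C.X_add, add_neg_cancel, C.X_zero]
            exact one_mem _
          · rw [Pi.single_eq_of_ne (Ne.symm hki), neg_zero, C.X_zero, mul_one]
            exact C.X_mem_US F (S := C.posBut i) ⟨C.p_pos k, fun h => hki (C.p_inj h)⟩ t
      · refine ⟨0, ?_, ?_⟩
        · rw [W_zero, hπ, xg_coe C hr.1]
          refine Subgroup.mem_sup_right (C.X_mem_US F (S := KJ C J 2) ⟨hr, ?_⟩ t)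
          by_contra hc
          exact hsimp (eq_p_of_htN hr.1 (by push_cast at hc; omega))
        · rw [Pi.zero_apply, neg_zero, C.X_zero, mul_one]
          exact C.X_mem_US F (S := C.posBut i) ⟨hr.1, fun h => hsimp ⟨i, h⟩⟩ t
    | one =>
      refine ⟨one_mem _, 0, ?_, ?_⟩
      · rw [W_zero]; exact map_one π
      · rw [Pi.zero_apply, neg_zero, C.X_zero, mul_one]; exact one_mem _
    | mul a b ha hb iha ihb =>
      obtain ⟨ha', φ, e1, h1⟩ := iha
      obtain ⟨hb', ψ, e2, h2⟩ := ihb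
      refine ⟨mul_mem ha' hb', φ + ψ, ?_, ?_⟩
      · rw [show (⟨a * b, mul_mem ha' hb'⟩ : ↥(C.US F C.Pos)) = ⟨a, ha'⟩ * ⟨b, hb'⟩ from rfl, map_mul,
          e1, e2, W_add C π hL]
      · have h3 := mul_mem h1 ((Subgroup.mem_normalizer_iff.1 (hN (φ i)) _).1 h2)
        convert h3 using 1
        rw [Pi.add_apply, neg_add_rev, ← C.X_add, ← C.X_inv F _ (φ i)]
        group
    | inv a ha iha =>
      obtain ⟨ha', φ, e1, h1⟩ := iha
      refine ⟨inv_mem ha', -φ, ?_, ?_⟩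
      · rw [show (⟨a⁻¹, inv_mem ha'⟩ : ↥(C.US F C.Pos)) = ⟨a, ha'⟩⁻¹ from rfl, map_inv, e1,
          inv_eq_iff_mul_eq_one, ← W_add C π hL, add_neg_cancel, W_zero]
      · have h3 := (Subgroup.mem_normalizer_iff.1 (hN (-φ i)) _).1 (inv_mem h1)
        convert h3 using 1
        rw [Pi.neg_apply, neg_neg, C.X_inv, neg_neg, mul_inv_rev, C.X_inv, neg_neg]
        rw [← mul_assoc, C.X_add, neg_add_cancel, C.X_zero, one_mul]
  -- an element of the kernel not vanishing at `i`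
  let K := kerW C π L hL
  obtain ⟨φ₀, hφ₀, hφ₀i⟩ : ∃ φ ∈ K, φ i ≠ 0 := by
    obtain ⟨g, hgX, hgi⟩ := SetLike.not_le_iff_exists.1 (not_le_posBut H hX hi)
    obtain ⟨hg, φ, e, h1⟩ := hdec g (le_radical H hX hgX)
    refine ⟨φ, ?_, fun h0 => hgi ?_⟩
    · rw [mem_kerW, ← e, hπ]; exact Subgroup.mem_sup_left hgX
    · rwa [h0, neg_zero, C.X_zero, mul_one] at h1
  -- the kernel is invariant under the torus
  have hinv : ∀ φ ∈ K, ∀ c : Fin D.rank → Fˣ, (fun k => (C.chA c (C.p k) : F) * φ k) ∈ K := by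
    intro φ hφ c
    rw [mem_kerW, W_eq_one_iff π hπ] at hφ ⊢
    have hN : C.HT F c ∈ Subgroup.normalizer (Y C X 2 : Set (GL D.Idx F)) :=
      borel_le_normalizer_Y H hX 2 (C.diagonal_le_borel (C.HT_mem_diagonal c))
    have h1 := (Subgroup.mem_normalizer_iff.1 hN _).1 hφ
    rw [← MulAut.conj_apply, map_list_prod, List.map_map] at h1
    refine Eq.subst (motive := fun g => g ∈ Y C X 2) ?_ h1
    refine congrArg List.prod (List.map_congr_left fun a ha => ?_)
    rw [List.mem_map] at ha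
    obtain ⟨k, -, rfl⟩ := ha
    simp only [Function.comp_apply, MulAut.conj_apply, f, one_mul, xg_coe C (C.p_pos k), C.HT_X_conj]
  -- separate the fundamental roots
  have hsim : ∀ k : Fin D.rank, (⟨D.simple k.val, hs k⟩ : Rt D) = C.p k := fun k => Fin.ext (C.simple_eq k)
  have elim : ∀ S : Finset (Fin D.rank), i ∉ S → ∃ ψ ∈ K, ψ i ≠ 0 ∧ ∀ k ∈ S, ψ k = 0 := by
    intro S
    induction S using Finset.induction_on with
    | empty => exact fun _ => ⟨φ₀, hφ₀, hφ₀i, by simp⟩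
    | insert k S hk ih =>
      intro hiS
      rw [Finset.mem_insert, not_or] at hiS
      obtain ⟨ψ, hψ, hψi, hψS⟩ := ih hiS.2
      obtain ⟨j, j', a, -, b, -, hk0, hie⟩ := (hsep i k).resolve_left hiS.1
      obtain ⟨z, hz1, hz2⟩ := hz
      let c : Fin D.rank → Fˣ := Pi.mulSingle j (z ^ a) * Pi.mulSingle j' (z ^ b)
      have hchar : ∀ r : Rt D, C.chA c r = z ^ (a * A D j r + b * A D j' r) := by
        intro r
        simp only [Core.chA, c, Pi.mul_apply, mul_zpow, Finset.prod_mul_distrib, zpow_add, zpow_mul]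
        congr 1 <;> rw [Finset.prod_eq_single_of_mem _ (Finset.mem_univ _)
          (fun m _ hm => by rw [Pi.mulSingle_eq_of_ne hm, one_zpow]), Pi.mulSingle_eq_same]
      refine ⟨(fun m => (C.chA c (C.p m) : F) * ψ m) - ψ, K.sub_mem (hinv ψ hψ c) hψ, ?_, ?_⟩
      · rw [Pi.sub_apply, ← sub_one_mul, hchar]
        refine mul_ne_zero (sub_ne_zero.2 ?_) hψi
        rw [hsim] at hie
        rw [Ne, Units.val_eq_one]
        rcases hie with h' | h' | ⟨h2, h'⟩ <;> rw [h']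
        · rwa [zpow_one]
        · rwa [zpow_neg, zpow_one, inv_eq_one]
        · exact hz2 h2
      · intro m hm
        rw [Pi.sub_apply, ← sub_one_mul, hchar]
        rcases Finset.mem_insert.1 hm with rfl | hm
        · rw [hsim] at hk0
          rw [hk0, zpow_zero, Units.val_one, sub_self, zero_mul]
        · rw [hψS m hm, mul_zero]
  obtain ⟨ψ, hψ, hψi, hψ0⟩ := elim (Finset.univ.erase i) (Finset.notMem_erase i _)
  have hψ' : ψ = Pi.single i (ψ i) := by
    funext m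
    by_cases hm : m = i
    · subst hm; rw [Pi.single_eq_same]
    · rw [Pi.single_eq_of_ne hm, hψ0 m (Finset.mem_erase.2 ⟨hm, Finset.mem_univ _⟩)]
  rw [hψ'] at hψ
  have hsq : ∀ z : F, Pi.single i (z ^ 2 * ψ i) ∈ K := by
    intro z
    by_cases hz0 : z = 0
    · rw [hz0, zero_pow two_ne_zero, zero_mul, Pi.single_zero]; exact K.zero_mem
    have h1 := hinv _ hψ (Pi.mulSingle i (Units.mk0 z hz0))
    convert h1 using 1
    funext m
    by_cases hm : m = i
    · subst hm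
      rw [Pi.single_eq_same, Pi.single_eq_same, Core.chA, Finset.prod_eq_single_of_mem _ (Finset.mem_univ m)
        (fun k _ hk => by rw [Pi.mulSingle_eq_of_ne hk, one_zpow]), Pi.mulSingle_eq_same, C.A_p]
      simp [zpow_ofNat]
    · rw [Pi.single_eq_of_ne hm, Pi.single_eq_of_ne hm, mul_zero]
  have hall : Pi.single i x ∈ K := by
    obtain ⟨a, b, hab⟩ : ∃ a b : F, a ^ 2 + b ^ 2 = x / ψ i := by
      by_cases h2 : ringChar F = 2
      · obtain ⟨a, ha⟩ := FiniteField.isSquare_of_char_two h2 (x / ψ i)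
        exact ⟨a, 0, by rw [zero_pow two_ne_zero, add_zero, ha, sq]⟩
      · have h20 : (2 : F) ≠ 0 := Ring.two_ne_zero h2
        obtain ⟨a, b, hab⟩ := FiniteField.exists_root_sum_quadratic (R := F)
          (f := Polynomial.X ^ 2) (g := Polynomial.X ^ 2 - Polynomial.C (x / ψ i))
          (by simp) (Polynomial.degree_X_pow_sub_C (by norm_num) _)
          (by
            have h := FiniteField.odd_card_of_char_ne_two h2
            omega)
        exact ⟨a, b, by simpa [add_sub, sub_eq_zero] using hab⟩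
    have h1 := K.add_mem (hsq a) (hsq b)
    rwa [← Pi.single_add, ← add_mul, hab, div_mul_cancel₀ _ hψi] at h1
  rw [mem_kerW, hsingle i hi _ fun m hm => Pi.single_eq_of_ne hm _, Pi.single_eq_same, hπ,
    xg_coe C (C.p_pos i)] at hall
  exact hall

omit H in
/-- A quotient of `U` by `Y_n`. -/
theorem mem_quot {N : Subgroup ↥(C.US F C.Pos)} [N.Normal] {n : ℕ} (hN : N = (Y C X n).subgroupOf (C.US F C.Pos))
    (u : ↥(C.US F C.Pos)) : QuotientGroup.mk' N u = 1 ↔ (u : GL D.Idx F) ∈ Y C X n := by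
  rw [QuotientGroup.mk'_apply, QuotientGroup.eq_one_iff, hN, Subgroup.mem_subgroupOf]

/-- The conclusion for one datum. -/
theorem eq_radical [Fintype F] (hX : WC C X) (hs : ∀ i : Fin D.rank, D.simple i.val < D.nroots)
    {mmax : ℕ} {two : Bool} (hroot : RootCert D mmax) (hsep : SepCert D hs two) (hmm : mmax ≤ 3)
    (hq2 : ∃ t : F, t ≠ 0 ∧ t ≠ 1)
    (hq3 : mmax = 3 → ∃ t s : F, t ≠ 0 ∧ t ≠ 1 ∧ s ≠ 0 ∧ s ≠ 1 ∧ t ≠ s)
    (hz : ∃ z : Fˣ, z ≠ 1 ∧ (two = true → z ^ (2 : ℤ) ≠ 1)) :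
    X = C.US F (C.UJ (JX C X)) := by
  classical
  refine le_antisymm (le_radical H hX) ?_
  have main : ∀ h : ℕ, 1 ≤ h → C.US F (C.UJ (JX C X)) ≤ Y C X h := by
    intro h h1
    induction h, h1 using Nat.le_induction with
    | base =>
      refine (C.US_mono F fun r hr => ?_).trans le_sup_right
      exact ⟨hr, by exact_mod_cast htN_pos hr.1⟩
    | succ h h1 ih =>
      have := Y_normal H hX (h + 1)
      have hπ := mem_quot (C := C) (X := X) (n := h + 1)
        (N := (Y C X (h + 1)).subgroupOf (C.US F C.Pos)) rfl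
      have hlev : ∀ r ∈ C.UJ (JX C X), htN C r = h → ∀ x : F, C.X F r x ∈ Y C X (h + 1) := by
        intro r hr hrh x
        by_cases h2 : 2 ≤ h
        · exact step_root H _ hπ hX hroot hmm hq2 hq3 ih hr hrh h2 x
        · obtain rfl : h = 1 := by omega
          obtain ⟨i, rfl⟩ := eq_p_of_htN hr.1 (by simp [hrh])
          exact step_one H _ hπ hX hs hsep hz (fun hiJ => hr.2 (C.p_mem_PJ hiJ)) x
      have hY : Y C X h ≤ Y C X (h + 1) := by
        refine sup_le le_sup_left ((Subgroup.closure_le _).2 ?_)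
        rintro g ⟨r, ⟨hr, hrh⟩, t, rfl⟩
        rcases hrh.eq_or_lt with e | e
        · exact hlev r hr e.symm t
        · exact Subgroup.mem_sup_right (C.X_mem_US F (S := KJ C (JX C X) (h + 1))
            ⟨hr, by push_cast; omega⟩ t)
      exact ih.trans hY
  let N : ℕ := ∑ r : Rt D, (htN C r).toNat
  refine (main (N + 1) (by omega)).trans (sup_le le_rfl ((Subgroup.closure_le _).2 ?_))
  rintro g ⟨r, ⟨hr, hrh⟩, t, rfl⟩
  exfalso
  have h2 := Finset.single_le_sum (f := fun r : Rt D => (htN C r).toNat) (fun _ _ => Nat.zero_le _)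
    (Finset.mem_univ r)
  have h3 := htN_pos hr.1
  have h4 : N + 1 ≤ (htN C r).toNat := by omega
  exact absurd h2 (by simp only [N] at h4; omega)

end Cfsg.Agent.Lib.WeaklyClosed.Main
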