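import Cfsg.Agent.Lib.ChevStructure.BN

/-! Products of root elements in a quotient of `U` in which they commute. -/

set_option autoImplicit false
set_option linter.unusedSectionVars false

open Cfsg.Lie Cfsg.Agent.Lib.ChevStructure
open scoped MatrixGroups

namespace Cfsg.Agent.Lib.WeaklyClosed.Quot

variable {D : ChevalleyDatum} (C : Core D) {F : Type*} [Field F]

/-- A root element in the group `U` (`1` if the index is not that of a positive root). -/
noncomputable def xg (k : ℕ) (t : F) : ↥(C.US F C.Pos) :=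
  if h : k < D.nroots ∧ D.nroots ≤ 2 * k then
    ⟨C.X F ⟨k, h.1⟩ t, C.X_mem_US F (S := C.Pos) h.2 t⟩
  else 1

theorem xg_coe {q : Rt D} (hq : q ∈ C.Pos) (t : F) : ((xg C q.val t : ↥(C.US F C.Pos)) : GL D.Idx F) = C.X F q t := by
  unfold xg
  rw [dif_pos ⟨q.isLt, hq⟩]

theorem xg_add (k : ℕ) (t u : F) : xg C k t * xg C k u = xg C k (t + u) := by
  unfold xg
  split_ifs with h
  · exact Subtype.ext (C.X_add F _ t u)
  · rw [one_mul]

theorem xg_zero (k : ℕ) : xg C k (0 : F) = 1 := by
  unfold xg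
  split_ifs with h
  · exact Subtype.ext (C.X_zero F _)
  · rfl

variable {Q : Type*} [Group Q] (π : ↥(C.US F C.Pos) →* Q) {κ : Type*}

/-- The product of the images of `x_k(c φ(key))` over a list of triples `(k, c, key)`. -/
noncomputable def W (L : List (ℕ × F × κ)) (φ : κ → F) : Q :=
  (L.map fun c => π (xg C c.1 (c.2.1 * φ c.2.2))).prod

theorem W_add : ∀ {L : List (ℕ × F × κ)},
    (∀ a ∈ L, ∀ b ∈ L, ∀ t u : F, Commute (π (xg C a.1 t)) (π (xg C b.1 u))) →
    ∀ φ ψ : κ → F, W C π L (φ + ψ) = W C π L φ * W C π L ψ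
  | [], _, _, _ => by simp [W]
  | a :: L, h, φ, ψ => by
    have ih := W_add (L := L) (fun x hx y hy => h x (List.mem_cons_of_mem _ hx) y (List.mem_cons_of_mem _ hy)) φ ψ
    have hc : Commute (W C π L φ) (π (xg C a.1 (a.2.1 * ψ a.2.2))) := by
      refine Commute.list_prod_left _ _ fun g hg => ?_
      rw [List.mem_map] at hg
      obtain ⟨b, hb, rfl⟩ := hg
      exact h b (List.mem_cons_of_mem _ hb) a (List.mem_cons_self ..) _ _
    simp only [W, List.map_cons, List.prod_cons] at ih hc ⊢
    rw [ih, Pi.add_apply, mul_add, ← xg_add, map_mul]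
    generalize π (xg C a.1 (a.2.1 * φ a.2.2)) = A
    generalize π (xg C a.1 (a.2.1 * ψ a.2.2)) = B at hc ⊢
    generalize (List.map (fun c => π (xg C c.1 (c.2.1 * φ c.2.2))) L).prod = P at hc ⊢
    generalize (List.map (fun c => π (xg C c.1 (c.2.1 * ψ c.2.2))) L).prod = P'
    calc A * B * (P * P') = A * (B * P) * P' := by group
      _ = A * (P * B) * P' := by rw [hc.eq]
      _ = _ := by group

theorem W_zero (L : List (ℕ × F × κ)) : W C π L 0 = 1 := by
  refine List.prod_eq_one fun g hg => ?_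
  rw [List.mem_map] at hg
  obtain ⟨c, -, rfl⟩ := hg
  rw [Pi.zero_apply, mul_zero, xg_zero, map_one]

/-- The kernel of `W`. -/
noncomputable def kerW (L : List (ℕ × F × κ))
    (h : ∀ a ∈ L, ∀ b ∈ L, ∀ t u : F, Commute (π (xg C a.1 t)) (π (xg C b.1 u))) : AddSubgroup (κ → F) where
  carrier := {φ | W C π L φ = 1}
  zero_mem' := W_zero C π L
  add_mem' := fun {a b} ha hb => by
    show W C π L (a + b) = 1
    rw [W_add C π h, show W C π L a = 1 from ha, show W C π L b = 1 from hb, mul_one]
  neg_mem' := fun {a} ha => by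
    show W C π L (-a) = 1
    have e := W_add C π h a (-a)
    rw [add_neg_cancel, W_zero, show W C π L a = 1 from ha, one_mul] at e
    exact e.symm

theorem mem_kerW {L : List (ℕ × F × κ)}
    {h : ∀ a ∈ L, ∀ b ∈ L, ∀ t u : F, Commute (π (xg C a.1 t)) (π (xg C b.1 u))} {φ : κ → F} :
    φ ∈ kerW C π L h ↔ W C π L φ = 1 := Iff.rfl

/-- Only one factor survives. -/
theorem W_single : ∀ {L : List (ℕ × F × κ)} {p : ℕ × F × κ → Prop} [DecidablePred p] {φ : κ → F}
    {c : ℕ × F × κ}, L.filter (fun a => decide (p a)) = [c] →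
    (∀ a ∈ L, ¬ p a → π (xg C a.1 (a.2.1 * φ a.2.2)) = 1) →
    W C π L φ = π (xg C c.1 (c.2.1 * φ c.2.2))
  | [], _, _, _, _, h, _ => by simp at h
  | a :: L, p, _, φ, c, h, h1 => by
    show π (xg C a.1 (a.2.1 * φ a.2.2)) * W C π L φ = _
    rw [List.filter_cons] at h
    by_cases ha : p a
    · rw [if_pos (by simpa using ha), List.cons.injEq] at h
      obtain ⟨rfl, h2⟩ := h
      have : W C π L φ = 1 := List.prod_eq_one fun g hg => by
        rw [List.mem_map] at hg
        obtain ⟨b, hb, rfl⟩ := hg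
        refine h1 b (List.mem_cons_of_mem _ hb) fun hp => ?_
        rw [List.filter_eq_nil_iff] at h2
        exact h2 b hb (by simpa using hp)
      rw [this, mul_one]
    · rw [if_neg (by simpa using ha)] at h
      rw [h1 a (List.mem_cons_self ..) ha, one_mul]
      exact W_single h fun b hb => h1 b (List.mem_cons_of_mem _ hb)

end Cfsg.Agent.Lib.WeaklyClosed.Quot
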